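import Mathlib

/-!
Kernel-friendly solver for systems of parity equations on bit masks, with its soundness.
An equation is a mask `e` whose bit 56 is the constant; a solution is a mask `t` with bit 56 set, and the equation says
that `e &&& t` has an even number of bits.
-/

set_option autoImplicit false

namespace Cfsg.Agent.Rudvalis.Bits

/-- bit test, kernel friendly -/
def tb (n j : ℕ) : Bool := Nat.beq (Nat.land (Nat.shiftRight n j) 1) 1

theorem tb_eq (n j : ℕ) : tb n j = n.testBit j := by
  have h : Nat.land (Nat.shiftRight n j) 1 = (n >>> j) % 2 := Nat.and_one_is_mod _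
  unfold tb
  rw [h, Nat.testBit_eq_decide_div_mod_eq, Nat.shiftRight_eq_div_pow]
  rcases Nat.mod_two_eq_zero_or_one (n / 2 ^ j) with h0 | h0 <;> rw [h0] <;> rfl

def fold (k n : ℕ) : ℕ := Nat.xor n (Nat.shiftRight n k)

/-- parity of the number of bits below 64 -/
def par (n : ℕ) : Bool := tb (fold 1 (fold 2 (fold 4 (fold 8 (fold 16 (fold 32 n)))))) 0

/-- the bit as an element of `ZMod 2` -/
def bz (b : Bool) : ZMod 2 := bif b then 1 else 0

theorem bz_xor (a b : Bool) : bz (a ^^ b) = bz a + bz b := by
  cases a <;> cases b <;> decide

/-- number of bits below `N`, mod 2 -/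
def PN (N n : ℕ) : ZMod 2 := ∑ q ∈ Finset.range N, bz (n.testBit q)

theorem PN_xor (N a b : ℕ) : PN N (a ^^^ b) = PN N a + PN N b := by
  unfold PN
  rw [← Finset.sum_add_distrib]
  exact Finset.sum_congr rfl fun q _ => by rw [Nat.testBit_xor, bz_xor]

theorem PN_fold (k n : ℕ) : PN k (fold k n) = PN (k + k) n := by
  have h : fold k n = n ^^^ (n >>> k) := rfl
  rw [h, PN_xor]
  unfold PN
  rw [Finset.sum_range_add]
  congr 1
  exact Finset.sum_congr rfl fun q _ => by rw [Nat.testBit_shiftRight]

theorem par_eq (n : ℕ) : bz (par n) = PN 64 n := by
  have h1 : PN 64 n = PN 32 (fold 32 n) := (PN_fold 32 n).symm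
  have h2 : PN 32 (fold 32 n) = PN 16 (fold 16 (fold 32 n)) := (PN_fold 16 _).symm
  have h3 : PN 16 (fold 16 (fold 32 n)) = PN 8 (fold 8 (fold 16 (fold 32 n))) := (PN_fold 8 _).symm
  have h4 : PN 8 (fold 8 (fold 16 (fold 32 n))) = PN 4 (fold 4 (fold 8 (fold 16 (fold 32 n)))) := (PN_fold 4 _).symm
  have h5 : PN 4 (fold 4 (fold 8 (fold 16 (fold 32 n)))) = PN 2 (fold 2 (fold 4 (fold 8 (fold 16 (fold 32 n))))) :=
    (PN_fold 2 _).symm
  have h6 : PN 2 (fold 2 (fold 4 (fold 8 (fold 16 (fold 32 n))))) =
      PN 1 (fold 1 (fold 2 (fold 4 (fold 8 (fold 16 (fold 32 n)))))) := (PN_fold 1 _).symm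
  rw [h1, h2, h3, h4, h5, h6]
  unfold par
  rw [tb_eq]
  unfold PN
  rw [Finset.sum_range_one]

theorem PN_congr {N a b : ℕ} (h : ∀ q < N, a.testBit q = b.testBit q) : PN N a = PN N b :=
  Finset.sum_congr rfl fun q hq => by rw [h q (Finset.mem_range.1 hq)]

/-- first equation containing bit `j` (or 0) -/
noncomputable def findP (j : ℕ) (E : List ℕ) : ℕ :=
  List.rec (motive := fun _ => ℕ) 0 (fun e _ ih => cond (tb e j) e ih) E

theorem findP_cons (j e : ℕ) (E : List ℕ) : findP j (e :: E) = cond (tb e j) e (findP j E) := rfl

theorem findP_mem {j : ℕ} {E : List ℕ} (h : tb (findP j E) j = true) : findP j E ∈ E := by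
  induction E with
  | nil => simp [findP, tb_eq] at h
  | cons e E ih =>
    rw [findP_cons] at h ⊢
    cases he : tb e j with
    | true => simp
    | false =>
      rw [he] at h
      exact List.mem_cons_of_mem _ (ih h)

theorem findP_none {j : ℕ} {E : List ℕ} (h : tb (findP j E) j = false) : ∀ e ∈ E, tb e j = false := by
  induction E with
  | nil => simp
  | cons e E ih =>
    rw [findP_cons] at h
    cases he : tb e j with
    | true => rw [he, cond_true, he] at h; exact absurd h (by simp)
    | false =>
      rw [he] at h
      intro x hx
      rcases List.mem_cons.1 hx with rfl | hx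
      · exact he
      · exact ih h x hx

/-- eliminate bit `j` with the equation `e` -/
noncomputable def elim (j e : ℕ) (E : List ℕ) : List ℕ :=
  List.rec (motive := fun _ => List ℕ) [] (fun x _ ih => cond (tb x j) (Nat.xor x e) x :: ih) E

theorem elim_mem {j e y : ℕ} {E : List ℕ} (h : y ∈ elim j e E) :
    ∃ x ∈ E, (tb x j = true ∧ y = x ^^^ e) ∨ (tb x j = false ∧ y = x) := by
  induction E with
  | nil => simp [elim] at h
  | cons x E ih =>
    have h' : y ∈ cond (tb x j) (x ^^^ e) x :: elim j e E := h
    rcases List.mem_cons.1 h' with h1 | h1
    · refine ⟨x, List.mem_cons_self, ?_⟩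
      cases hx : tb x j with
      | true => rw [hx] at h1; exact Or.inl ⟨rfl, h1⟩
      | false => rw [hx] at h1; exact Or.inr ⟨rfl, h1⟩
    · obtain ⟨z, hz, h2⟩ := ih h1
      exact ⟨z, List.mem_cons_of_mem _ hz, h2⟩

noncomputable def allZ (E : List ℕ) : Bool :=
  List.rec (motive := fun _ => Bool) true (fun x _ ih => cond (Nat.beq x 0) ih false) E

theorem allZ_of {E : List ℕ} (h : ∀ e ∈ E, e = 0) : allZ E = true := by
  induction E with
  | nil => rfl
  | cons x E ih =>
    have hx := h x List.mem_cons_self
    subst hx
    exact ih fun e he => h e (List.mem_cons_of_mem _ he)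

noncomputable def fixL (j e : ℕ) (S : List ℕ) : List ℕ :=
  List.rec (motive := fun _ => List ℕ) [] (fun t _ ih => cond (par (Nat.land e t)) (Nat.xor t (Nat.pow 2 j)) t :: ih) S

theorem fixL_mem {j e t : ℕ} {S : List ℕ} (h : t ∈ S) :
    cond (par (e &&& t)) (t ^^^ 2 ^ j) t ∈ fixL j e S := by
  induction S with
  | nil => simp at h
  | cons x S ih =>
    rcases List.mem_cons.1 h with rfl | h1
    · exact List.mem_cons_self
    · exact List.mem_cons_of_mem _ (ih h1)

noncomputable def dupL (j : ℕ) (S : List ℕ) : List ℕ :=
  List.rec (motive := fun _ => List ℕ) [] (fun t _ ih => t :: Nat.xor t (Nat.pow 2 j) :: ih) S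

theorem dupL_mem {j t : ℕ} {S : List ℕ} (h : t ∈ S) : t ∈ dupL j S ∧ t ^^^ 2 ^ j ∈ dupL j S := by
  induction S with
  | nil => simp at h
  | cons x S ih =>
    have e : dupL j (x :: S) = x :: (x ^^^ 2 ^ j) :: dupL j S := rfl
    rw [e]
    rcases List.mem_cons.1 h with rfl | h1
    · exact ⟨List.mem_cons_self, List.mem_cons_of_mem _ List.mem_cons_self⟩
    · exact ⟨List.mem_cons_of_mem _ (List.mem_cons_of_mem _ (ih h1).1),
        List.mem_cons_of_mem _ (List.mem_cons_of_mem _ (ih h1).2)⟩

/-- all solutions supported in `w` of the system `E` -/
noncomputable def sols (w n : ℕ) : List ℕ → List ℕ :=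
  Nat.rec (motive := fun _ => List ℕ → List ℕ) (fun E => cond (allZ E) [Nat.pow 2 56] [])
    (fun j ih E => cond (tb w j)
      (cond (tb (findP j E) j) (fixL j (findP j E) (ih (elim j (findP j E) E))) (dupL j (ih E))) (ih E)) n

theorem sols_zero (w : ℕ) (E : List ℕ) : sols w 0 E = cond (allZ E) [2 ^ 56] [] := rfl

theorem sols_succ (w j : ℕ) (E : List ℕ) : sols w (j + 1) E = cond (tb w j)
    (cond (tb (findP j E) j) (fixL j (findP j E) (sols w j (elim j (findP j E) E))) (dupL j (sols w j E)))
    (sols w j E) := rfl

/-- bits of `e` allowed at stage `n` -/
def Inv (w n e : ℕ) : Prop := ∀ q, e.testBit q = true → (q < n ∧ w.testBit q = true) ∨ q = 56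

theorem sols_sound (w : ℕ) : ∀ (n : ℕ) (_ : n ≤ 56) (E : List ℕ) (t : ℕ), (∀ e ∈ E, Inv w n e) → Inv w n t →
    t.testBit 56 = true → (∀ e ∈ E, PN 64 (e &&& t) = 0) → t ∈ sols w n E := by
  intro n
  induction n with
  | zero =>
    intro _ E t hE ht h56 hs
    have ht' : t = 2 ^ 56 := by
      apply Nat.eq_of_testBit_eq
      intro q
      rw [Nat.testBit_two_pow]
      by_cases hq : 56 = q
      · subst hq; simp [h56]
      · simp only [hq, decide_false]
        cases h : t.testBit q with
        | false => rfl
        | true =>
          rcases ht q h with h1 | h1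
          · omega
          · exact absurd h1.symm hq
    rw [sols_zero, allZ_of, ht']
    · exact List.mem_cons_self
    · intro e he
      have h1 := hs e he
      have h2 : e.testBit 56 = false := by
        cases h3 : e.testBit 56 with
        | false => rfl
        | true =>
          exfalso
          have h4 : PN 64 (e &&& t) = PN 64 (2 ^ 56) := by
            apply PN_congr
            intro q _
            rw [ht', Nat.testBit_and, Nat.testBit_two_pow]
            by_cases hq : 56 = q
            · subst hq; simp [h3]
            · simp [hq]
          rw [h4, ← par_eq] at h1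
          exact absurd h1 (by decide)
      apply Nat.eq_of_testBit_eq
      intro q
      rw [Nat.zero_testBit]
      cases h3 : e.testBit q with
      | false => rfl
      | true =>
        rcases hE e he q h3 with h4 | h4
        · omega
        · rw [h4, h2] at h3; exact absurd h3 (by simp)
  | succ j ih =>
    intro hj E t hE ht h56 hs
    have hj' : j < 56 := by omega
    rw [sols_succ]
    cases hw : tb w j with
    | false =>
      rw [cond_false]
      have hinv : ∀ e, Inv w (j + 1) e → Inv w j e := by
        intro e he q hq
        rcases he q hq with h1 | h1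
        · refine Or.inl ⟨?_, h1.2⟩
          have : q ≠ j := by
            rintro rfl
            rw [tb_eq, h1.2] at hw
            exact absurd hw (by simp)
          omega
        · exact Or.inr h1
      exact ih (by omega) E t (fun e he => hinv e (hE e he)) (hinv t ht) h56 hs
    | true =>
      rw [cond_true]
      -- the solution without bit j
      have hdec : ∃ t', t'.testBit j = false ∧ Inv w j t' ∧ t'.testBit 56 = true ∧
          (∀ q, q ≠ j → t'.testBit q = t.testBit q) ∧ (t = cond (t.testBit j) (t' ^^^ 2 ^ j) t') := by
        have key : ∀ t', (∀ q, q ≠ j → t'.testBit q = t.testBit q) → t'.testBit j = false → Inv w j t' := by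
          intro t' h1 h2 q hq
          have hqj : q ≠ j := by rintro rfl; rw [h2] at hq; exact absurd hq (by simp)
          rw [h1 q hqj] at hq
          rcases ht q hq with h3 | h3
          · exact Or.inl ⟨by omega, h3.2⟩
          · exact Or.inr h3
        cases htj : t.testBit j with
        | false => exact ⟨t, htj, key t (fun q _ => rfl) htj, h56, fun q _ => rfl, rfl⟩
        | true =>
          have h1 : ∀ q, q ≠ j → (t ^^^ 2 ^ j).testBit q = t.testBit q := by
            intro q hq
            rw [Nat.testBit_xor, Nat.testBit_two_pow]
            simp [Ne.symm hq]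
          have h2 : (t ^^^ 2 ^ j).testBit j = false := by
            rw [Nat.testBit_xor, Nat.testBit_two_pow, htj]; simp
          refine ⟨t ^^^ 2 ^ j, h2, key _ h1 h2, ?_, h1, ?_⟩
          · rw [h1 56 (by omega), h56]
          · rw [cond_true, Nat.xor_assoc, Nat.xor_self, Nat.xor_zero]
      obtain ⟨t', h1, h2, h3, h4, h5⟩ := hdec
      have hand : ∀ e, e.testBit j = false → PN 64 (e &&& t') = PN 64 (e &&& t) := by
        intro e he
        apply PN_congr
        intro q _
        rw [Nat.testBit_and, Nat.testBit_and]
        by_cases hq : q = j
        · subst hq; rw [he]; simp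
        · rw [h4 q hq]
      cases hf : tb (findP j E) j with
      | false =>
        rw [cond_false]
        have hn := findP_none hf
        have hmem : t' ∈ sols w j E := by
          refine ih (by omega) E t' ?_ h2 h3 ?_
          · intro e he q hq
            rcases hE e he q hq with h6 | h6
            · refine Or.inl ⟨?_, h6.2⟩
              have : q ≠ j := by
                rintro rfl
                have := hn e he
                rw [tb_eq, hq] at this
                exact absurd this (by simp)
              omega
            · exact Or.inr h6
          · intro e he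
            rw [hand e (by rw [← tb_eq]; exact hn e he)]
            exact hs e he
        rw [h5]
        cases t.testBit j with
        | false => exact (dupL_mem hmem).1
        | true => exact (dupL_mem hmem).2
      | true =>
        rw [cond_true]
        set e := findP j E with he_def
        have heE : e ∈ E := findP_mem hf
        have hej : e.testBit j = true := by rw [← tb_eq]; exact hf
        have hmem : t' ∈ sols w j (elim j e E) := by
          refine ih (by omega) _ t' ?_ h2 h3 ?_
          · intro y hy q hq
            obtain ⟨x, hx, h6 | h6⟩ := elim_mem hy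
            · obtain ⟨hxj, rfl⟩ := h6
              rw [tb_eq] at hxj
              have hqj : q ≠ j := by
                rintro rfl
                rw [Nat.testBit_xor, hxj, hej] at hq
                exact absurd hq (by simp)
              rw [Nat.testBit_xor] at hq
              have : x.testBit q = true ∨ e.testBit q = true := by
                revert hq
                cases x.testBit q <;> cases e.testBit q <;> simp
              rcases this with h7 | h7
              · rcases hE x hx q h7 with h8 | h8
                · exact Or.inl ⟨by omega, h8.2⟩
                · exact Or.inr h8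
              · rcases hE e heE q h7 with h8 | h8
                · exact Or.inl ⟨by omega, h8.2⟩
                · exact Or.inr h8
            · obtain ⟨hxj, rfl⟩ := h6
              rcases hE y hx q hq with h8 | h8
              · refine Or.inl ⟨?_, h8.2⟩
                have : q ≠ j := by
                  rintro rfl
                  rw [tb_eq, hq] at hxj
                  exact absurd hxj (by simp)
                omega
              · exact Or.inr h8
          · intro y hy
            obtain ⟨x, hx, h6 | h6⟩ := elim_mem hy
            · obtain ⟨hxj, rfl⟩ := h6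
              rw [tb_eq] at hxj
              rw [hand _ (by rw [Nat.testBit_xor, hxj, hej]; rfl), Nat.and_xor_distrib_right, PN_xor, hs x hx,
                hs e heE, add_zero]
            · obtain ⟨hxj, rfl⟩ := h6
              rw [hand _ (by rw [← tb_eq]; exact hxj)]
              exact hs _ hx
        have hpar : par (e &&& t') = t.testBit j := by
          have h6 : PN 64 (e &&& t) = PN 64 (e &&& t') + bz (t.testBit j) := by
            cases htj : t.testBit j with
            | false =>
              rw [htj, cond_false] at h5
              rw [← h5]
              simp [bz]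
            | true =>
              rw [htj, cond_true] at h5
              have h8 : e &&& t = (e &&& t') ^^^ (e &&& 2 ^ j) := by
                rw [← Nat.and_xor_distrib_left, ← h5]
              rw [h8, PN_xor]
              refine congrArg (fun z => PN 64 (e &&& t') + z) ?_
              have : PN 64 (e &&& 2 ^ j) = PN 64 (2 ^ j) := by
                apply PN_congr
                intro q _
                rw [Nat.testBit_and, Nat.testBit_two_pow]
                by_cases hq : j = q
                · subst hq; simp [hej]
                · simp [hq]
              rw [this]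
              unfold PN
              rw [Finset.sum_eq_single j]
              · rw [Nat.testBit_two_pow]; simp
              · intro q _ hq
                rw [Nat.testBit_two_pow]
                simp [Ne.symm hq, bz]
              · intro h
                exact absurd (Finset.mem_range.2 (by omega)) h
          rw [hs e heE, ← par_eq] at h6
          revert h6
          cases par (e &&& t') <;> cases t.testBit j <;> decide
        have h7 := fixL_mem (j := j) (e := e) hmem
        rw [hpar] at h7
        rw [h5]
        exact h7

end Cfsg.Agent.Rudvalis.Bits
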