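import Cfsg.Agent.Rudvalis.Rows
set_option autoImplicit false
set_option maxRecDepth 100000

namespace Cfsg.Agent.Rudvalis.Key

open Cfsg.Spor Cfsg.Agent.Ru900.Coord Cfsg.Agent.Ru900.Pack Cfsg.Agent.Ru900.Lat
open Cfsg.Agent.Rudvalis.Bits Cfsg.Agent.Rudvalis.Words Cfsg.Agent.Rudvalis.Rows

theorem and_of_cond {a b : Bool} (h : cond a b false = true) : a = true ∧ b = true := by
  cases a with
  | false => exact absurd h (by simp)
  | true => exact ⟨rfl, h⟩

theorem bool_aux {a b : Bool} (h : cond a b (cond b false true) = true) : a = b := by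
  cases a <;> cases b <;> first | rfl | exact absurd h (by simp)

/-- digits of the 19 vectors -/
def dB (k q : ℕ) : ℕ := dig (B19.getD k 0) q

theorem G_bit (k q : ℕ) (hk : k < 19) (hq : q < 56) :
    (Gk.getD k 0).testBit q = (dB k q).testBit 0 := by
  have h := allN_spec (allI_spec chkG k (by rw [len_G]; exact hk)) q hq
  have h2 := bool_aux h
  rw [zero_add, digF_eq, tb_eq, tb_eq] at h2
  exact h2

theorem C_eq (q : ℕ) (hq : q < 56) :
    Ck.getD q 0 = ∑ k ∈ Finset.range 19, (dB k q % 8) * 65536 ^ k := by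
  have h := allI_spec chkC q (by rw [len_C]; exact hq)
  rw [zero_add] at h
  have h2 := Nat.eq_of_beq_eq_true h
  rw [h2, packCol_eq, len_B19]
  rfl

/-- the 19 vectors -/
def B19v (k : ℕ) : RuVec := vec (B19.getD k 0)

theorem crd_B19v (k q : ℕ) (hq : q < 56) : crd (B19v k) q = (dB k q : ℤ) - 8 := crd_vec _ _ hq

theorem B19_mem (k : ℕ) (hk : k < 19) : B19v k ∈ M := by
  have h := allI_spec chkB k (by rw [len_K]; exact hk)
  obtain ⟨h1, h2⟩ := and_of_cond h
  rw [zero_add] at h2
  have h3 := Nat.eq_of_beq_eq_true h2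
  have h4 := Nat.le_of_ble_eq_true h1
  have h5 := Ru900.Eq.B_mem_M (Ks.getD k 0) (by omega)
  unfold Bv at h5
  rw [B19v, h3]
  exact h5

/-! ### a vector of the given shape satisfies the equations -/

/-- the number of common signs, as a sum -/
def cA (d : ℕ → ℕ) (s : ℕ) : ℕ := ∑ q ∈ Finset.range 56, bif s.testBit q then d q % 2 else 0

/-- the digit of the packed sum -/
def sg (d : ℕ → ℕ) (w : ℕ) : ℕ := ∑ q ∈ Finset.range 56, bif w.testBit q then d q % 8 else 0

theorem sg_lt (d : ℕ → ℕ) (w : ℕ) : sg d w < 65536 := by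
  have h : sg d w ≤ ∑ q ∈ Finset.range 56, 7 := by
    refine Finset.sum_le_sum fun q _ => ?_
    have := Nat.mod_lt (d q) (show 8 > 0 by norm_num)
    cases w.testBit q
    · simp
    · rw [cond_true]; omega
  simp at h
  omega

theorem S_gen (w n : ℕ) (C : List ℕ) (d : ℕ → ℕ → ℕ) (P : ℕ → ℕ) (hl : C.length = 56)
    (hC : ∀ q < 56, C.getD q 0 = ∑ k ∈ Finset.range n, (d k q % 8) * P k) :
    sumC w C 0 = ∑ k ∈ Finset.range n, sg (d k) w * P k := by
  rw [sumC_eq, hl]
  have e : ∀ q ∈ Finset.range 56, (bif w.testBit (0 + q) then C.getD q 0 else 0) =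
      ∑ k ∈ Finset.range n, (bif w.testBit q then d k q % 8 else 0) * P k := by
    intro q hq
    rw [zero_add, hC q (Finset.mem_range.1 hq)]
    cases w.testBit q
    · simp only [cond_false, zero_mul, Finset.sum_const_zero]
    · simp only [cond_true]
  rw [Finset.sum_congr rfl e, Finset.sum_comm]
  refine Finset.sum_congr rfl fun k _ => ?_
  rw [sg, Finset.sum_mul]

theorem S_bit (w k : ℕ) (hk : k < 19) : (sumC w Ck 0).testBit (16 * k + 1) = (sg (dB k) w).testBit 1 := by
  have h := S_gen w 19 Ck dB (fun k => 65536 ^ k) len_C C_eq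
  have h2 := digit_sum 19 (fun k => sg (dB k) w) (fun k _ => sg_lt _ w) k hk
  rw [testBit_digit _ _ _ (by norm_num), h]
  exact congrArg (fun n => Nat.testBit n 1) h2

theorem PN_gen (d : ℕ → ℕ) (g s : ℕ) (hg : ∀ q < 56, g.testBit q = (d q).testBit 0) (hs : s < 2 ^ 56) :
    PN 64 (g &&& s) = (cA d s : ZMod 2) := by
  unfold PN cA
  have h8 : ∑ q ∈ Finset.range 64, bz ((g &&& s).testBit q) =
      ∑ q ∈ Finset.range 56, bz ((g &&& s).testBit q) := by
    rw [show (64 : ℕ) = 56 + 8 from rfl, Finset.sum_range_add]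
    rw [add_eq_left]
    refine Finset.sum_eq_zero fun q _ => ?_
    rw [Nat.testBit_and, Nat.testBit_lt_two_pow (lt_of_lt_of_le hs (Nat.pow_le_pow_right (by norm_num) (by omega)))]
    simp [bz]
  rw [h8, Nat.cast_sum]
  refine Finset.sum_congr rfl fun q hq => ?_
  rw [Nat.testBit_and, hg q (Finset.mem_range.1 hq), Nat.testBit_zero]
  cases s.testBit q
  · simp [bz]
  · rcases Nat.mod_two_eq_zero_or_one (d q) with h | h <;> rw [h] <;> simp [bz]

theorem PN_G (s k : ℕ) (hk : k < 19) (hs : s < 2 ^ 56) :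
    PN 64 (Gk.getD k 0 &&& s) = (cA (dB k) s : ZMod 2) :=
  PN_gen (dB k) _ s (fun q hq => G_bit k q hk hq) hs

theorem key_gen (c : ℕ → ℤ) (d : ℕ → ℕ) (w s : ℕ) (hw0 : ∀ q < 56, w.testBit q = false → c q = 0)
    (hw1 : ∀ q < 56, w.testBit q = true → c q = 1 ∨ c q = -1)
    (hs : ∀ q < 56, s.testBit q = decide (c q = -1))
    (h4 : (4 : ℤ) ∣ ∑ q ∈ Finset.range 56, c q * ((d q : ℤ) - 8)) :
    (sg d w).testBit 1 = decide (cA d s % 2 = 1) := by
  have h5 : (4 : ℤ) ∣ ((sg d w : ℤ) - 2 * (cA d s : ℤ)) - ∑ q ∈ Finset.range 56, c q * ((d q : ℤ) - 8) := by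
    unfold sg cA
    rw [Nat.cast_sum, Nat.cast_sum, Finset.mul_sum, ← Finset.sum_sub_distrib, ← Finset.sum_sub_distrib]
    refine Finset.dvd_sum fun q hq => ?_
    rw [Finset.mem_range] at hq
    rw [hs q hq]
    generalize d q = m
    cases hwq : w.testBit q with
    | false =>
      rw [hw0 q hq hwq]
      simp
    | true =>
      rcases hw1 q hq hwq with h | h
      · rw [h, cond_true, show decide ((1 : ℤ) = -1) = false from rfl, cond_false]; omega
      · rw [h, cond_true, show decide ((-1 : ℤ) = -1) = true from rfl, cond_true]; omega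
  have h6 : (4 : ℤ) ∣ (sg d w : ℤ) - 2 * (cA d s : ℤ) := by
    have := dvd_add h5 h4
    rwa [sub_add_cancel] at this
  generalize sg d w = a at h6 ⊢
  generalize cA d s = b at h6 ⊢
  rw [Nat.testBit_eq_decide_div_mod_eq, decide_eq_decide, pow_one]
  omega

theorem key {x : RuVec} {w s : ℕ} (hx : x ∈ M) (hw0 : ∀ q < 56, w.testBit q = false → crd x q = 0)
    (hw1 : ∀ q < 56, w.testBit q = true → crd x q = 1 ∨ crd x q = -1)
    (hs : ∀ q < 56, s.testBit q = decide (crd x q = -1)) (k : ℕ) (hk : k < 19) :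
    (sg (dB k) w).testBit 1 = decide (cA (dB k) s % 2 = 1) := by
  have h4 : (4 : ℤ) ∣ rip x (B19v k) := Ru900.Eq.rip_dvd hx (B19_mem k hk)
  refine key_gen (crd x) (dB k) w s hw0 hw1 hs ?_
  have e : ∑ q ∈ Finset.range 56, crd x q * ((dB k q : ℤ) - 8) = rip x (B19v k) :=
    Finset.sum_congr rfl fun q hq => by rw [crd_B19v k q (Finset.mem_range.1 hq)]
  rw [e]
  exact h4

/-- the parity of the equation of row `k` -/
theorem PN_row (w s k : ℕ) (hw : w < 2 ^ 56) (hs : s < 2 ^ 56)
    (hsub : ∀ q, s.testBit q = true → w.testBit q = true) (g S : ℕ) :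
    PN 64 (rowE g w S k &&& (s ^^^ 2 ^ 56)) = PN 64 (g &&& s) + bz (S.testBit (16 * k + 1)) := by
  have hbig : ∀ {a q : ℕ}, a < 2 ^ 56 → 56 ≤ q → a.testBit q = false := fun {a q} ha hq =>
    Nat.testBit_lt_two_pow (lt_of_lt_of_le ha (Nat.pow_le_pow_right (by norm_num) hq))
  have e : PN 64 (rowE g w S k &&& (s ^^^ 2 ^ 56)) =
      PN 64 ((g &&& s) ^^^ (bif S.testBit (16 * k + 1) then 2 ^ 56 else 0)) := by
    apply PN_congr
    intro q _
    rw [Nat.testBit_and, rowE_bit, Nat.testBit_xor, Nat.testBit_xor, Nat.testBit_and, Nat.testBit_two_pow]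
    generalize S.testBit (16 * k + 1) = c
    by_cases h1 : q = 56
    · subst h1
      rw [hbig hs le_rfl, hbig hw le_rfl, Bool.and_false, Bool.false_xor, Bool.false_xor, Bool.false_xor]
      cases c
      · rw [cond_false, Nat.zero_testBit]; rfl
      · rw [cond_true, Nat.testBit_two_pow_self]; rfl
    · have h2 : decide (56 = q) = false := by simp [Ne.symm h1]
      have h3 : (bif c then 2 ^ 56 else 0 : ℕ).testBit q = false := by
        cases c
        · rw [cond_false, Nat.zero_testBit]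
        · rw [cond_true, Nat.testBit_two_pow, h2]
      rw [h2, h3]
      have h4 := hsub q
      revert h4
      generalize s.testBit q = a
      generalize w.testBit q = b
      generalize g.testBit q = d
      cases a <;> cases b <;> cases d <;> simp [h1]
  rw [e, PN_xor]
  refine congrArg (fun z => PN 64 (g &&& s) + z) ?_
  cases S.testBit (16 * k + 1)
  · rw [cond_false]
    unfold PN
    exact Finset.sum_eq_zero fun q _ => by rw [Nat.zero_testBit]; rfl
  · rw [cond_true]
    unfold PN
    rw [Finset.sum_eq_single 56]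
    · rw [Nat.testBit_two_pow_self]
    · intro q _ hq
      rw [Nat.testBit_two_pow]
      simp [Ne.symm hq, bz]
    · intro h
      exact absurd (Finset.mem_range.2 (by omega)) h

theorem cast_par (n : ℕ) : (n : ZMod 2) + bz (decide (n % 2 = 1)) = 0 := by
  rcases Nat.mod_two_eq_zero_or_one n with h | h
  · have h1 : (n : ZMod 2) = 0 := (ZMod.natCast_eq_zero_iff n 2).2 (Nat.dvd_of_mod_eq_zero h)
    rw [h1, h]; decide
  · have h1 : (n : ZMod 2) = 1 := by
      have : n = 2 * (n / 2) + 1 := by omega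
      rw [this]
      push_cast
      rw [show (2 : ZMod 2) = 0 from rfl]
      simp
    rw [h1, h]; decide

/-- the sign mask of a lattice vector supported in the word `w` is among the computed solutions -/
theorem mem_sols {x : RuVec} {w s : ℕ} (hx : x ∈ M) (hw : w < 2 ^ 56)
    (hw0 : ∀ q < 56, w.testBit q = false → crd x q = 0)
    (hw1 : ∀ q < 56, w.testBit q = true → crd x q = 1 ∨ crd x q = -1)
    (hs56 : s < 2 ^ 56) (hs : ∀ q < 56, s.testBit q = decide (crd x q = -1)) :
    s ^^^ 2 ^ 56 ∈ sols w 56 (rows w) := by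
  have hbig : ∀ {a q : ℕ}, a < 2 ^ 56 → 56 ≤ q → a.testBit q = false := fun {a q} ha hq =>
    Nat.testBit_lt_two_pow (lt_of_lt_of_le ha (Nat.pow_le_pow_right (by norm_num) hq))
  have hsub : ∀ q, s.testBit q = true → w.testBit q = true := by
    intro q hq
    by_cases h1 : q < 56
    · rw [hs q h1, decide_eq_true_eq] at hq
      by_contra h2
      rw [hw0 q h1 (by simpa using h2)] at hq
      exact absurd hq (by norm_num)
    · rw [hbig hs56 (by omega)] at hq
      exact absurd hq (by simp)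
  have hrow : ∀ e ∈ rows w, ∃ k < 19, e = rowE (Gk.getD k 0) w (sumC w Ck 0) k := by
    intro e he
    obtain ⟨k, hk, h1⟩ := rowsL_mem _ _ _ _ _ he
    rw [zero_add] at h1
    exact ⟨k, by rw [← len_G]; exact hk, h1⟩
  refine sols_sound w 56 le_rfl (rows w) _ ?_ ?_ ?_ ?_
  · intro e he q hq
    obtain ⟨k, hk, rfl⟩ := hrow e he
    rw [rowE_bit] at hq
    by_cases h1 : q = 56
    · exact Or.inr h1
    · left
      have h2 : w.testBit q = true := by
        revert hq
        cases w.testBit q <;> simp [h1]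
      refine ⟨?_, h2⟩
      by_contra h3
      rw [hbig hw (by omega)] at h2
      exact absurd h2 (by simp)
  · intro q hq
    rw [Nat.testBit_xor, Nat.testBit_two_pow] at hq
    by_cases h1 : q = 56
    · exact Or.inr h1
    · left
      have h2 : s.testBit q = true := by
        revert hq
        cases s.testBit q <;> simp [Ne.symm h1]
      refine ⟨?_, hsub q h2⟩
      by_contra h3
      rw [hbig hs56 (by omega)] at h2
      exact absurd h2 (by simp)
  · rw [Nat.testBit_xor, Nat.testBit_two_pow_self, hbig hs56 le_rfl]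
    rfl
  · intro e he
    obtain ⟨k, hk, rfl⟩ := hrow e he
    rw [PN_row w s k hw hs56 hsub, PN_G s k hk hs56, S_bit w k hk, key hx hw0 hw1 hs k hk]
    exact cast_par _

end Cfsg.Agent.Rudvalis.Key
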