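import Cfsg.Agent.Rudvalis.Code
import Cfsg.Agent.Rudvalis.Key

/-!
Kernel check: for every one of the 1008 words all solutions of the sign equations are codes of unit multiples of the
listed vectors.
-/

set_option autoImplicit false
set_option maxRecDepth 100000

namespace Cfsg.Agent.Rudvalis.Chk

open Cfsg.Spor Cfsg.Agent.Ru900.Coord Cfsg.Agent.RuLat
open Cfsg.Agent.Rudvalis.Bits Cfsg.Agent.Rudvalis.Words Cfsg.Agent.Rudvalis.Rows Cfsg.Agent.Rudvalis.Code

/-- check of one solution -/
noncomputable def chkT (w t e i : ℕ) : Bool :=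
  cond (Nat.ble (Nat.succ i) 4060) (cond (tb frameMask i) false
    (Nat.beq (rotN e (code i)) (Nat.lor w (Nat.shiftLeft (Nat.xor t 72057594037927936) 56)))) false

noncomputable def chkS (w : ℕ) (S : List ℕ) : ℕ → Bool :=
  List.rec (motive := fun _ => ℕ → Bool) (fun _ => true)
    (fun t _ ih x => cond (Mem.force (Nat.land (Nat.shiftRight x 2) 4095) (fun i => chkT w t (Nat.land x 3) i))
      (ih (Nat.shiftRight x 14)) false) S

noncomputable def chkW (L : List ℕ) : List ℕ → Bool :=
  List.rec (motive := fun _ => List ℕ → Bool) (fun _ => true)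
    (fun w _ ih X => List.rec (motive := fun _ => Bool) false
      (fun x Y _ => cond (Nat.ble (Nat.succ w) 72057594037927936)
        (cond (chkS w (sols w 56 (rows w)) x) (ih Y) false) false) X) L

theorem chk : chkW W Tab = true := by decide +kernel

theorem and_of_cond {a b : Bool} (h : cond a b false = true) : a = true ∧ b = true := by
  cases a with
  | false => exact absurd h (by simp)
  | true => exact ⟨rfl, h⟩

theorem chkT_spec {w t e i : ℕ} (h : chkT w t e i = true) :
    i < 4060 ∧ frameMask.testBit i = false ∧ rotN e (code i) = w ||| ((t ^^^ 72057594037927936) <<< 56) := by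
  obtain ⟨h1, h2⟩ := and_of_cond h
  refine ⟨Nat.le_of_ble_eq_true h1, ?_⟩
  cases h3 : tb frameMask i with
  | true => rw [h3] at h2; exact absurd h2 (by simp)
  | false =>
    rw [h3] at h2
    exact ⟨by rw [← tb_eq]; exact h3, Nat.eq_of_beq_eq_true h2⟩

theorem chkS_spec {w : ℕ} {S : List ℕ} {x : ℕ} (h : chkS w S x = true) : ∀ t ∈ S,
    ∃ e < 4, ∃ i, chkT w t e i = true := by
  induction S generalizing x with
  | nil => simp
  | cons t S ih =>
    obtain ⟨h1, h2⟩ := and_of_cond (a := Mem.force (Nat.land (Nat.shiftRight x 2) 4095)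
      (fun i => chkT w t (Nat.land x 3) i)) (b := chkS w S (Nat.shiftRight x 14)) h
    intro u hu
    rcases List.mem_cons.1 hu with rfl | hu
    · rw [Mem.force_eq] at h1
      refine ⟨_, ?_, _, h1⟩
      have : Nat.land x 3 = x % 4 := Nat.and_two_pow_sub_one_eq_mod x 2
      rw [this]
      exact Nat.mod_lt _ (by norm_num)
    · exact ih h2 u hu

theorem chkW_spec {L X : List ℕ} (h : chkW L X = true) : ∀ w ∈ L, w < 72057594037927936 ∧
    ∀ t ∈ sols w 56 (rows w), ∃ e < 4, ∃ i, chkT w t e i = true := by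
  induction L generalizing X with
  | nil => simp
  | cons a L ih =>
    cases X with
    | nil => exact absurd h (by simp [chkW])
    | cons x X =>
      obtain ⟨h1, h2⟩ := and_of_cond (a := Nat.ble (Nat.succ a) 72057594037927936)
        (b := cond (chkS a (sols a 56 (rows a)) x) (chkW L X) false) h
      obtain ⟨h3, h4⟩ := and_of_cond h2
      intro w hw
      rcases List.mem_cons.1 hw with rfl | hw
      · exact ⟨Nat.le_of_ble_eq_true h1, chkS_spec h3⟩
      · exact ih h4 w hw

theorem W_lt {w : ℕ} (hw : w ∈ W) : w < 2 ^ 56 := (chkW_spec chk w hw).1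

theorem W_spec {w t : ℕ} (hw : w ∈ W) (ht : t ∈ sols w 56 (rows w)) : ∃ e < 4, ∃ i < 4060,
    frameMask.testBit i = false ∧ rotN e (code i) = w ||| ((t ^^^ 72057594037927936) <<< 56) := by
  obtain ⟨e, he, i, h⟩ := (chkW_spec chk w hw).2 t ht
  obtain ⟨h1, h2, h3⟩ := chkT_spec h
  exact ⟨e, he, i, h1, h2, h3⟩

end Cfsg.Agent.Rudvalis.Chk
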