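import Cfsg.Agent.RuLat.Mem
import Cfsg.Agent.Rudvalis.Bits

/-!
Codes of the 4060 listed vectors: bits `0..55` the support in real coordinates, bits `56..111` the signs; multiplication
by `i` on codes.
-/

set_option autoImplicit false
set_option maxRecDepth 100000

namespace Cfsg.Agent.Rudvalis.Code

open Cfsg.Spor Cfsg.Agent.Ru900.Coord Cfsg.Agent.RuLat
open Cfsg.Agent.Rudvalis.Bits

/-! ### codes -/

def bt (n j : ℕ) : ℕ := Nat.land (Nat.shiftRight n j) 1

theorem bt_eq (n j : ℕ) : bt n j = bif n.testBit j then 1 else 0 := by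
  have h : bt n j = (n >>> j) % 2 := Nat.and_one_is_mod _
  rw [h, Nat.testBit_eq_decide_div_mod_eq, Nat.shiftRight_eq_div_pow]
  rcases Nat.mod_two_eq_zero_or_one (n / 2 ^ j) with h0 | h0 <;> rw [h0] <;> rfl

/-- code of one coordinate -/
def cd1 (i : ℕ) (t : ℕ × ℕ × ℕ) : ℕ :=
  Nat.mul (Nat.add (bt t.1 i) (Nat.mul 2 (bt t.2.1 i))) (Nat.succ (Nat.mul 72057594037927936 (bt t.2.2 i)))

theorem cd1_bit (i : ℕ) (t : ℕ × ℕ × ℕ) (q : ℕ) : (cd1 i t).testBit q =
    ((decide (q = 0) && t.1.testBit i) || (decide (q = 1) && t.2.1.testBit i) ||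
      (decide (q = 56) && t.1.testBit i && t.2.2.testBit i) ||
      (decide (q = 57) && t.2.1.testBit i && t.2.2.testBit i)) := by
  have h : cd1 i t = (bt t.1 i + 2 * bt t.2.1 i) * (72057594037927936 * bt t.2.2 i + 1) := rfl
  rw [h, bt_eq, bt_eq, bt_eq]
  have key : ∀ a b c : Bool, ((bif a then 1 else 0) + 2 * (bif b then 1 else 0)) *
      (72057594037927936 * (bif c then 1 else 0) + 1) =
      (bif a then 2 ^ 0 else 0) ||| (bif b then 2 ^ 1 else 0) ||| (bif a && c then 2 ^ 56 else 0) |||
        (bif b && c then 2 ^ 57 else 0) := by decide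
  have hb : ∀ (a : Bool) (n : ℕ), (bif a then 2 ^ n else 0 : ℕ).testBit q = (decide (q = n) && a) := by
    intro a n
    cases a
    · rw [cond_false, Nat.zero_testBit, Bool.and_false]
    · rw [cond_true, Nat.testBit_two_pow, Bool.and_true]
      congr 1
      exact propext eq_comm
  rw [key, Nat.testBit_or, Nat.testBit_or, Nat.testBit_or, hb, hb, hb, hb]
  simp only [Bool.and_assoc]

noncomputable def cdL (i : ℕ) (l : List (ℕ × ℕ × ℕ)) : ℕ :=
  List.rec (motive := fun _ => ℕ) 0 (fun t _ ih => Nat.lor (cd1 i t) (Nat.shiftLeft ih 2)) l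

theorem cdL_cons (i : ℕ) (t : ℕ × ℕ × ℕ) (l : List (ℕ × ℕ × ℕ)) : cdL i (t :: l) = cd1 i t ||| (cdL i l <<< 2) := rfl

theorem cdL_bit (i : ℕ) (l : List (ℕ × ℕ × ℕ)) (hl : l.length ≤ 28) (j : ℕ) (hj : j < 28) :
    (cdL i l).testBit (2 * j) = (l.getD j (0, 0, 0)).1.testBit i ∧
    (cdL i l).testBit (2 * j + 1) = (l.getD j (0, 0, 0)).2.1.testBit i ∧
    (cdL i l).testBit (56 + 2 * j) =
      ((l.getD j (0, 0, 0)).1.testBit i && (l.getD j (0, 0, 0)).2.2.testBit i) ∧
    (cdL i l).testBit (56 + (2 * j + 1)) =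
      ((l.getD j (0, 0, 0)).2.1.testBit i && (l.getD j (0, 0, 0)).2.2.testBit i) := by
  induction l generalizing j with
  | nil => simp [cdL]
  | cons t l ih =>
    have hl' : l.length ≤ 27 := by rw [List.length_cons] at hl; omega
    rw [cdL_cons]
    simp only [Nat.testBit_or, cd1_bit, Nat.testBit_shiftLeft]
    cases j with
    | zero =>
      obtain ⟨h1, h2, _, _⟩ := ih (by omega) 27 (by omega)
      have e1 : l.getD 27 (0, 0, 0) = (0, 0, 0) := List.getD_eq_default _ _ hl'
      rw [e1] at h1 h2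
      simp only [Nat.zero_testBit] at h1 h2
      simp [h1, h2]
    | succ j =>
      obtain ⟨h1, h2, h3, h4⟩ := ih (by omega) j (by omega)
      rw [List.getD_cons_succ]
      have e1 : 2 * (j + 1) - 2 = 2 * j := by omega
      have e2 : 2 * (j + 1) + 1 - 2 = 2 * j + 1 := by omega
      have e3 : 56 + 2 * (j + 1) - 2 = 56 + 2 * j := by omega
      have e4 : 56 + (2 * (j + 1) + 1) - 2 = 56 + (2 * j + 1) := by omega
      rw [e1, e2, e3, e4, h1, h2, h3, h4]
      refine ⟨?_, ?_, ?_, ?_⟩
      · have a1 : decide (2 * (j + 1) = 0) = false := decide_eq_false (by omega)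
        have a2 : decide (2 * (j + 1) = 1) = false := decide_eq_false (by omega)
        have a3 : decide (2 * (j + 1) = 56) = false := decide_eq_false (by omega)
        have a4 : decide (2 * (j + 1) = 57) = false := decide_eq_false (by omega)
        have a5 : decide (2 * (j + 1) ≥ 2) = true := decide_eq_true (by omega)
        rw [a1, a2, a3, a4, a5]
        simp
      · have a1 : decide (2 * (j + 1) + 1 = 0) = false := decide_eq_false (by omega)
        have a2 : decide (2 * (j + 1) + 1 = 1) = false := decide_eq_false (by omega)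
        have a3 : decide (2 * (j + 1) + 1 = 56) = false := decide_eq_false (by omega)
        have a4 : decide (2 * (j + 1) + 1 = 57) = false := decide_eq_false (by omega)
        have a5 : decide (2 * (j + 1) + 1 ≥ 2) = true := decide_eq_true (by omega)
        rw [a1, a2, a3, a4, a5]
        simp
      · have a1 : decide (56 + 2 * (j + 1) = 0) = false := decide_eq_false (by omega)
        have a2 : decide (56 + 2 * (j + 1) = 1) = false := decide_eq_false (by omega)
        have a3 : decide (56 + 2 * (j + 1) = 56) = false := decide_eq_false (by omega)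
        have a4 : decide (56 + 2 * (j + 1) = 57) = false := decide_eq_false (by omega)
        have a5 : decide (56 + 2 * (j + 1) ≥ 2) = true := decide_eq_true (by omega)
        rw [a1, a2, a3, a4, a5]
        simp
      · have a1 : decide (56 + (2 * (j + 1) + 1) = 0) = false := decide_eq_false (by omega)
        have a2 : decide (56 + (2 * (j + 1) + 1) = 1) = false := decide_eq_false (by omega)
        have a3 : decide (56 + (2 * (j + 1) + 1) = 56) = false := decide_eq_false (by omega)
        have a4 : decide (56 + (2 * (j + 1) + 1) = 57) = false := decide_eq_false (by omega)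
        have a5 : decide (56 + (2 * (j + 1) + 1) ≥ 2) = true := decide_eq_true (by omega)
        rw [a1, a2, a3, a4, a5]
        simp

/-- code of the vector `i` -/
noncomputable def code (i : ℕ) : ℕ := cdL i planes

/-- decoding -/
def dec (c q : ℕ) : ℤ := bif c.testBit q then (bif c.testBit (56 + q) then -1 else 1) else 0

theorem code_even (i j : ℕ) (hj : j < 28) : dec (code i) (2 * j) = Mem.ent (pR j) (pS j) i := by
  obtain ⟨h1, _, h3, _⟩ := cdL_bit i planes (le_of_eq Mem.chk_len) j hj
  unfold dec code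
  rw [h1, h3]
  unfold Mem.ent pR pS
  generalize (planes.getD j (0, 0, 0)).1.testBit i = a
  generalize (planes.getD j (0, 0, 0)).2.2.testBit i = b
  cases a <;> cases b <;> rfl

theorem code_odd (i j : ℕ) (hj : j < 28) : dec (code i) (2 * j + 1) = Mem.ent (pI j) (pS j) i := by
  obtain ⟨_, h1, _, h3⟩ := cdL_bit i planes (le_of_eq Mem.chk_len) j hj
  unfold dec code
  rw [h1, h3]
  unfold Mem.ent pI pS
  generalize (planes.getD j (0, 0, 0)).2.1.testBit i = a
  generalize (planes.getD j (0, 0, 0)).2.2.testBit i = b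
  cases a <;> cases b <;> rfl

/-- the scale as an integer -/
def sc (i : ℕ) : ℤ := if frameMask.testBit i then 4 else 1

theorem crd_code (i q : ℕ) (hq : q < 56) : crd (RuLat.vec i) q = sc i * dec (code i) q := by
  rcases Nat.even_or_odd' q with ⟨j, rfl | rfl⟩
  · rw [Mem.crd_vec_even i j (by omega), code_even i j (by omega)]; rfl
  · rw [Mem.crd_vec_odd i j (by omega), code_odd i j (by omega)]; rfl

/-! ### multiplication by `i` -/

theorem crd_gI_even (v : RuVec) (j : ℕ) (hj : j < 28) : crd (gI • v) (2 * j) = -crd v (2 * j + 1) := by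
  obtain ⟨n, t, rfl⟩ : ∃ (n : Fin 7) (t : Fin 4), j = 4 * n.val + t.val :=
    ⟨⟨j / 4, by omega⟩, ⟨j % 4, by omega⟩, by simp; omega⟩
  rw [show 2 * (4 * n.val + t.val) = 8 * n.val + 2 * t.val by ring, crd_re, crd_im]
  show (gI * v (n, t)).re = _
  rw [Zsqrtd.re_mul]
  simp [gI]

theorem crd_gI_odd (v : RuVec) (j : ℕ) (hj : j < 28) : crd (gI • v) (2 * j + 1) = crd v (2 * j) := by
  obtain ⟨n, t, rfl⟩ : ∃ (n : Fin 7) (t : Fin 4), j = 4 * n.val + t.val :=
    ⟨⟨j / 4, by omega⟩, ⟨j % 4, by omega⟩, by simp; omega⟩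
  rw [show 2 * (4 * n.val + t.val) = 8 * n.val + 2 * t.val by ring, crd_re, crd_im]
  show (gI * v (n, t)).im = _
  rw [Zsqrtd.im_mul]
  simp [gI]

def EE : ℕ := 0x55555555555555

theorem EE_bit : ∀ q < 56, EE.testBit q = decide (q % 2 = 0) := by decide +kernel

theorem EE_bit_big (q : ℕ) (hq : 56 ≤ q) : EE.testBit q = false :=
  Nat.testBit_lt_two_pow (lt_of_lt_of_le (show EE < 2 ^ 56 by decide) (Nat.pow_le_pow_right (by norm_num) hq))

/-- the support part -/
def rotW (c : ℕ) : ℕ := Nat.lor (Nat.land (Nat.shiftRight c 1) EE) (Nat.shiftLeft (Nat.land c EE) 1)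

def rotS (c : ℕ) : ℕ := Nat.lor (Nat.land (Nat.shiftRight (Nat.xor c (Nat.shiftRight c 56)) 1) EE)
  (Nat.shiftLeft (Nat.land (Nat.shiftRight c 56) EE) 1)

def rot (c : ℕ) : ℕ := Nat.lor (rotW c) (Nat.shiftLeft (rotS c) 56)

theorem rotW_def (c : ℕ) : rotW c = ((c >>> 1) &&& EE) ||| ((c &&& EE) <<< 1) := rfl

theorem rotS_def (c : ℕ) : rotS c = (((c ^^^ (c >>> 56)) >>> 1) &&& EE) ||| (((c >>> 56) &&& EE) <<< 1) := rfl

theorem rot_def (c : ℕ) : rot c = rotW c ||| (rotS c <<< 56) := rfl

theorem rotW_even (c j : ℕ) (hj : j < 28) : (rotW c).testBit (2 * j) = c.testBit (2 * j + 1) := by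
  rw [rotW_def, Nat.testBit_or, Nat.testBit_and, Nat.testBit_shiftRight, Nat.testBit_shiftLeft, Nat.testBit_and,
    EE_bit (2 * j) (by omega), add_comm 1 (2 * j)]
  have h1 : decide (2 * j % 2 = 0) = true := decide_eq_true (by omega)
  rw [h1, Bool.and_true]
  by_cases h : 2 * j ≥ 1
  · have h2 : EE.testBit (2 * j - 1) = false := by
      rw [EE_bit _ (by omega)]; exact decide_eq_false (by omega)
    rw [h2]; simp
  · simp [h]

theorem rotW_odd (c j : ℕ) (hj : j < 28) : (rotW c).testBit (2 * j + 1) = c.testBit (2 * j) := by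
  rw [rotW_def, Nat.testBit_or, Nat.testBit_and, Nat.testBit_shiftRight, Nat.testBit_shiftLeft, Nat.testBit_and,
    EE_bit (2 * j + 1) (by omega), Nat.add_sub_cancel, EE_bit (2 * j) (by omega)]
  have h1 : decide (2 * j % 2 = 0) = true := decide_eq_true (by omega)
  have h2 : decide ((2 * j + 1) % 2 = 0) = false := decide_eq_false (by omega)
  have h3 : decide (2 * j + 1 ≥ 1) = true := decide_eq_true (by omega)
  rw [h1, h2, h3]
  simp

theorem rotW_big (c q : ℕ) (hq : 56 ≤ q) : (rotW c).testBit q = false := by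
  rw [rotW_def, Nat.testBit_or, Nat.testBit_and, Nat.testBit_shiftRight, Nat.testBit_shiftLeft, Nat.testBit_and,
    EE_bit_big q hq]
  by_cases h : q = 56
  · subst h
    rw [EE_bit 55 (by omega)]
    simp
  · rw [EE_bit_big (q - 1) (by omega)]
    simp

theorem rotS_even (c j : ℕ) (hj : j < 28) : (rotS c).testBit (2 * j) =
    (c.testBit (2 * j + 1) ^^ c.testBit (56 + (2 * j + 1))) := by
  rw [rotS_def, Nat.testBit_or, Nat.testBit_and, Nat.testBit_shiftRight, Nat.testBit_xor, Nat.testBit_shiftRight,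
    Nat.testBit_shiftLeft, Nat.testBit_and,
    EE_bit (2 * j) (by omega), add_comm 1 (2 * j)]
  have h1 : decide (2 * j % 2 = 0) = true := decide_eq_true (by omega)
  rw [h1, Bool.and_true]
  by_cases h : 2 * j ≥ 1
  · have h2 : EE.testBit (2 * j - 1) = false := by
      rw [EE_bit _ (by omega)]; exact decide_eq_false (by omega)
    rw [h2]; simp
  · simp [h]

theorem rotS_odd (c j : ℕ) (hj : j < 28) : (rotS c).testBit (2 * j + 1) = c.testBit (56 + 2 * j) := by
  rw [rotS_def, Nat.testBit_or, Nat.testBit_and, Nat.testBit_shiftRight, Nat.testBit_shiftLeft, Nat.testBit_and,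
    EE_bit (2 * j + 1) (by omega), Nat.add_sub_cancel, EE_bit (2 * j) (by omega), Nat.testBit_shiftRight]
  have h1 : decide (2 * j % 2 = 0) = true := decide_eq_true (by omega)
  have h2 : decide ((2 * j + 1) % 2 = 0) = false := decide_eq_false (by omega)
  have h3 : decide (2 * j + 1 ≥ 1) = true := decide_eq_true (by omega)
  rw [h1, h2, h3]
  simp

theorem rot_low (c q : ℕ) (hq : q < 56) : (rot c).testBit q = (rotW c).testBit q := by
  rw [rot_def, Nat.testBit_or, Nat.testBit_shiftLeft]
  have h : decide (q ≥ 56) = false := decide_eq_false (by omega)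
  rw [h]; simp

theorem rot_high (c q : ℕ) : (rot c).testBit (56 + q) = (rotS c).testBit q := by
  rw [rot_def, Nat.testBit_or, Nat.testBit_shiftLeft, rotW_big c (56 + q) (by omega), Nat.add_sub_cancel_left]
  have h : decide (56 + q ≥ 56) = true := decide_eq_true (by omega)
  rw [h]; simp

theorem dec_rot_even (c j : ℕ) (hj : j < 28) : dec (rot c) (2 * j) = -dec c (2 * j + 1) := by
  unfold dec
  rw [rot_low c _ (by omega), rot_high c, rotW_even c j hj, rotS_even c j hj]
  generalize c.testBit (2 * j + 1) = a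
  generalize c.testBit (56 + (2 * j + 1)) = b
  cases a <;> cases b <;> rfl

theorem dec_rot_odd (c j : ℕ) (hj : j < 28) : dec (rot c) (2 * j + 1) = dec c (2 * j) := by
  unfold dec
  rw [rot_low c _ (by omega), rot_high c, rotW_odd c j hj, rotS_odd c j hj]

theorem crd_rot (v : RuVec) (c : ℕ) (m : ℤ) (h : ∀ q < 56, crd v q = m * dec c q) :
    ∀ q < 56, crd (gI • v) q = m * dec (rot c) q := by
  intro q hq
  rcases Nat.even_or_odd' q with ⟨j, rfl | rfl⟩
  · rw [crd_gI_even v j (by omega), dec_rot_even c j (by omega), h _ (by omega)]; ring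
  · rw [crd_gI_odd v j (by omega), dec_rot_odd c j (by omega), h _ (by omega)]

noncomputable def rotN (e c : ℕ) : ℕ := Nat.rec (motive := fun _ => ℕ) c (fun _ ih => rot ih) e

theorem crd_rotN (v : RuVec) (c : ℕ) (m : ℤ) (h : ∀ q < 56, crd v q = m * dec c q) (e : ℕ) :
    ∀ q < 56, crd (gI ^ e • v) q = m * dec (rotN e c) q := by
  induction e with
  | zero => rw [pow_zero, one_smul]; exact h
  | succ e ih =>
    rw [pow_succ', mul_smul]
    exact crd_rot _ _ m ih

/-- recognition of a unit multiple of a listed vector -/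
theorem eq_of_code (x : RuVec) (i e c : ℕ) (h : ∀ q < 56, crd x q = sc i * dec c q) (hc : rotN e (code i) = c) :
    x = gI ^ e • RuLat.vec i := by
  apply ext_crd
  intro q hq
  rw [h q hq, crd_rotN (RuLat.vec i) (code i) (sc i) (crd_code i) e q hq, hc]

end Cfsg.Agent.Rudvalis.Code
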