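import Cfsg.Agent.Ru900.Eq
import Cfsg.Agent.Rudvalis.Words
import Cfsg.Agent.Rudvalis.Bits

/-!
The sign stage of the classification of the minimal vectors: the equations of the signs on a word, their data checks.
-/

set_option autoImplicit false
set_option maxRecDepth 100000

namespace Cfsg.Agent.Rudvalis.Rows

open Cfsg.Spor Cfsg.Agent.Ru900.Coord Cfsg.Agent.Ru900.Pack Cfsg.Agent.Ru900.Lat
open Cfsg.Agent.Rudvalis.Bits Cfsg.Agent.Rudvalis.Words

/-! ### the equations -/

/-- packed sum of the columns in the word `w` -/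
noncomputable def sumC (w : ℕ) (l : List ℕ) : ℕ → ℕ :=
  List.rec (motive := fun _ => ℕ → ℕ) (fun _ => 0)
    (fun c _ ih q => cond (tb w q) (Nat.add c (ih (Nat.succ q))) (ih (Nat.succ q))) l

theorem sumC_eq (w : ℕ) (l : List ℕ) (i : ℕ) :
    sumC w l i = ∑ q ∈ Finset.range l.length, bif w.testBit (i + q) then l.getD q 0 else 0 := by
  induction l generalizing i with
  | nil => rfl
  | cons a l ih =>
    have h : sumC w (a :: l) i = cond (tb w i) (a + sumC w l (i + 1)) (sumC w l (i + 1)) := rfl
    rw [h, ih, List.length_cons, Finset.sum_range_succ', tb_eq, add_zero]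
    simp only [List.getD_cons_succ, List.getD_cons_zero]
    have e : ∀ q, i + 1 + q = i + (q + 1) := fun q => by omega
    simp only [e]
    cases w.testBit i with
    | false => simp
    | true => simp [add_comm]

/-- one equation -/
def rowE (g w S k : ℕ) : ℕ :=
  Nat.xor (Nat.land g w) (Nat.shiftLeft (Nat.land (Nat.shiftRight S (Nat.succ (Nat.mul 16 k))) 1) 56)

noncomputable def rowsL (w S : ℕ) (l : List ℕ) : ℕ → List ℕ :=
  List.rec (motive := fun _ => ℕ → List ℕ) (fun _ => [])
    (fun g _ ih k => rowE g w S k :: ih (Nat.succ k)) l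

noncomputable def rows (w : ℕ) : List ℕ := rowsL w (sumC w Ck 0) Gk 0

theorem rowsL_mem (w S : ℕ) (l : List ℕ) (i e : ℕ) (h : e ∈ rowsL w S l i) :
    ∃ k < l.length, e = rowE (l.getD k 0) w S (i + k) := by
  induction l generalizing i with
  | nil => simp [rowsL] at h
  | cons a l ih =>
    have h' : e ∈ rowE a w S i :: rowsL w S l (i + 1) := h
    rcases List.mem_cons.1 h' with h1 | h1
    · exact ⟨0, by simp, by simpa using h1⟩
    · obtain ⟨k, hk, h2⟩ := ih (i + 1) h1
      refine ⟨k + 1, by simpa using hk, ?_⟩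
      rw [List.getD_cons_succ, h2]
      congr 1
      omega

theorem rowE_bit (g w S k q : ℕ) : (rowE g w S k).testBit q =
    ((g.testBit q && w.testBit q) ^^ (decide (q = 56) && S.testBit (16 * k + 1))) := by
  have h : rowE g w S k = (g &&& w) ^^^ (((S >>> (16 * k + 1)) &&& 1) <<< 56) := rfl
  rw [h, Nat.testBit_xor, Nat.testBit_and, Nat.testBit_shiftLeft, Nat.testBit_and, Nat.testBit_shiftRight]
  congr 1
  by_cases h1 : q = 56
  · subst h1; simp
  · by_cases h2 : 56 ≤ q
    · have h3 : Nat.testBit 1 (q - 56) = false := by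
        rw [Nat.testBit_eq_false_of_lt]
        exact Nat.one_lt_two_pow (by omega)
      simp [h1, h3]
    · simp [h1, h2]

/-! ### data checks -/

theorem chkG : allI Gk (fun k g => allN 56 (fun q =>
    cond (tb g q) (tb (digF (B19.getD k 0) q) 0) (cond (tb (digF (B19.getD k 0) q) 0) false true))) 0 = true := by
  decide +kernel

theorem chkC : allI Ck (fun q c => Nat.beq c (packCol B19 q)) 0 = true := by decide +kernel

theorem chkB : allI Ks (fun i k => cond (Nat.ble k 55)
    (Nat.beq (B19.getD i 0) (Ru900.Data.Bc.getD k 0)) false) 0 = true := by decide +kernel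

theorem len_G : Gk.length = 19 := rfl
theorem len_C : Ck.length = 56 := rfl
theorem len_K : Ks.length = 19 := rfl
theorem len_B19 : B19.length = 19 := rfl

end Cfsg.Agent.Rudvalis.Rows
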