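import Cfsg.Agent.Rudvalis.Chk

/-!
The sign stage of the classification of the minimal vectors: a lattice vector with coordinates `±1` on one of the 1008
words of weight 16 and 0 elsewhere, or `±4` at one place and 0 elsewhere, is a unit multiple of one of the 4060 listed
vectors.
-/

set_option autoImplicit false
set_option maxRecDepth 100000

namespace Cfsg.Agent.Rudvalis.Sign

open Cfsg.Spor Cfsg.Agent.Ru900.Coord Cfsg.Agent.Ru900.Pack Cfsg.Agent.RuLat
open Cfsg.Agent.Rudvalis.Bits Cfsg.Agent.Rudvalis.Words Cfsg.Agent.Rudvalis.Rows Cfsg.Agent.Rudvalis.Code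

/-- a vector with coordinates `±1` on a word and 0 elsewhere -/
theorem sign_stage {x : RuVec} (hx : x ∈ ruLattice) {w : ℕ} (hw : w ∈ Words.W)
    (h0 : ∀ q < 56, w.testBit q = false → crd x q = 0)
    (h1 : ∀ q < 56, w.testBit q = true → crd x q = 1 ∨ crd x q = -1) :
    ∃ i < 4060, ∃ e < 4, x = gI ^ e • RuLat.vec i := by
  have hx' : x ∈ Cfsg.Agent.Ru900.Lat.M := by rw [← Cfsg.Agent.Ru900.Eq.ruLattice_eq]; exact hx
  obtain ⟨s, hs56, hs⟩ : ∃ s : ℕ, s < 2 ^ 56 ∧ ∀ q < 56, s.testBit q = decide (crd x q = -1) :=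
    ⟨Nat.ofBits (fun q : Fin 56 => decide (crd x q.val = -1)), Nat.ofBits_lt_two_pow _,
      fun q hq => by rw [Nat.testBit_ofBits_lt _ _ hq]⟩
  have hwl : w < 2 ^ 56 := Chk.W_lt hw
  have hmem := Key.mem_sols hx' hwl h0 h1 hs56 hs
  obtain ⟨e, he, i, hi, hf, hc⟩ := Chk.W_spec hw hmem
  refine ⟨i, hi, e, he, eq_of_code x i e _ ?_ hc⟩
  have hsc : sc i = 1 := by unfold sc; rw [hf]; rfl
  have hss : (s ^^^ 2 ^ 56) ^^^ 72057594037927936 = s := by
    rw [Nat.xor_assoc, show (2 : ℕ) ^ 56 = 72057594037927936 by norm_num, Nat.xor_self, Nat.xor_zero]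
  intro q hq
  rw [hsc, one_mul, hss]
  have e1 : (w ||| (s <<< 56)).testBit q = w.testBit q := by
    rw [Nat.testBit_or, Nat.testBit_shiftLeft, decide_eq_false (by omega), Bool.false_and, Bool.or_false]
  have e2 : (w ||| (s <<< 56)).testBit (56 + q) = s.testBit q := by
    rw [Nat.testBit_or, Nat.testBit_shiftLeft, decide_eq_true (by omega), Nat.add_sub_cancel_left, Bool.true_and,
      Nat.testBit_lt_two_pow (lt_of_lt_of_le hwl (Nat.pow_le_pow_right (by norm_num) (by omega))), Bool.false_or]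
  unfold dec
  rw [e1, e2, hs q hq]
  cases hwq : w.testBit q with
  | false => rw [h0 q hq hwq]; rfl
  | true =>
    rcases h1 q hq hwq with h | h
    · rw [h]; rfl
    · rw [h]; rfl

/-! ### vectors `±4 e_q` -/

/-- indices of the frame lines, by complex coordinate -/
def Fr : List ℕ := [0, 580, 161, 1544, 3721, 1227, 149, 1668, 952, 3126, 1132, 3021, 3516, 2904, 1347, 399, 1977, 3944,
  912, 2553, 987, 3328, 98, 1897, 609, 2002, 2030, 2488]

noncomputable def exE (c t : ℕ) : Bool :=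
  cond (Nat.beq (rotN 0 c) t) true (cond (Nat.beq (rotN 1 c) t) true
    (cond (Nat.beq (rotN 2 c) t) true (Nat.beq (rotN 3 c) t)))

theorem exE_spec {c t : ℕ} (h : exE c t = true) : ∃ e < 4, rotN e c = t := by
  unfold exE at h
  cases h0 : Nat.beq (rotN 0 c) t with
  | true => exact ⟨0, by norm_num, Nat.eq_of_beq_eq_true h0⟩
  | false =>
    rw [h0, cond_false] at h
    cases h1 : Nat.beq (rotN 1 c) t with
    | true => exact ⟨1, by norm_num, Nat.eq_of_beq_eq_true h1⟩
    | false =>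
      rw [h1, cond_false] at h
      cases h2 : Nat.beq (rotN 2 c) t with
      | true => exact ⟨2, by norm_num, Nat.eq_of_beq_eq_true h2⟩
      | false =>
        rw [h2, cond_false] at h
        exact ⟨3, by norm_num, Nat.eq_of_beq_eq_true h⟩

/-- the two codes of `±4 e_q` -/
def tgt (b q : ℕ) : ℕ := Nat.lor (Nat.pow 2 q) (Nat.shiftLeft (Nat.mul b (Nat.pow 2 q)) 56)

noncomputable def chkF1 (q i : ℕ) : Bool :=
  cond (Nat.ble (Nat.succ i) 4060) (cond (tb frameMask i) (cond (exE (code i) (tgt 0 q)) (exE (code i) (tgt 1 q)) false)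
    false) false

theorem chkF : allN 56 (fun q => Mem.force (Fr.getD (Nat.div q 2) 0) (chkF1 q)) = true := by decide +kernel

theorem chkF_spec (q : ℕ) (hq : q < 56) : ∃ i < 4060, frameMask.testBit i = true ∧
    (∃ e < 4, rotN e (code i) = tgt 0 q) ∧ (∃ e < 4, rotN e (code i) = tgt 1 q) := by
  have h := allN_spec chkF q hq
  rw [Mem.force_eq] at h
  obtain ⟨h1, h2⟩ := Chk.and_of_cond h
  obtain ⟨h3, h4⟩ := Chk.and_of_cond h2
  obtain ⟨h5, h6⟩ := Chk.and_of_cond h4
  exact ⟨_, Nat.le_of_ble_eq_true h1, by rw [← tb_eq]; exact h3, exE_spec h5, exE_spec h6⟩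

theorem dec_tgt (b q r : ℕ) (hb : b < 2) (hq : q < 56) (hr : r < 56) :
    dec (tgt b q) r = if r = q then 1 - 2 * (b : ℤ) else 0 := by
  have e : tgt b q = 2 ^ q ||| ((b * 2 ^ q) <<< 56) := rfl
  have e1 : (tgt b q).testBit r = decide (q = r) := by
    rw [e, Nat.testBit_or, Nat.testBit_shiftLeft, decide_eq_false (by omega : ¬ r ≥ 56), Bool.false_and, Bool.or_false,
      Nat.testBit_two_pow]
  have e2 : (tgt b q).testBit (56 + r) = (decide (b = 1) && decide (q = r)) := by
    rw [e, Nat.testBit_or, Nat.testBit_shiftLeft, decide_eq_true (by omega : 56 + r ≥ 56), Nat.add_sub_cancel_left,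
      Bool.true_and, Nat.testBit_two_pow, decide_eq_false (by omega : ¬ q = 56 + r), Bool.false_or]
    rcases (by omega : b = 0 ∨ b = 1) with rfl | rfl
    · rw [zero_mul, Nat.zero_testBit]; rfl
    · rw [one_mul, Nat.testBit_two_pow]; rfl
  unfold dec
  rw [e1, e2]
  by_cases h : q = r
  · subst h
    rcases (by omega : b = 0 ∨ b = 1) with rfl | rfl <;> simp
  · rw [decide_eq_false h, if_neg (fun h' => h h'.symm)]
    rfl

/-- a vector with one coordinate `±4` -/
theorem frame_stage {x : RuVec} {q : ℕ} (hq : q < 56) (h : crd x q = 4 ∨ crd x q = -4)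
    (h0 : ∀ r < 56, r ≠ q → crd x r = 0) : ∃ i < 4060, ∃ e < 4, x = gI ^ e • RuLat.vec i := by
  obtain ⟨i, hi, hf, ⟨e0, he0, hc0⟩, ⟨e1, he1, hc1⟩⟩ := chkF_spec q hq
  have hsc : sc i = 4 := by unfold sc; rw [hf]; rfl
  rcases h with h | h
  · refine ⟨i, hi, e0, he0, eq_of_code x i e0 _ ?_ hc0⟩
    intro r hr
    rw [dec_tgt 0 q r (by norm_num) hq hr, hsc]
    by_cases hrq : r = q
    · subst hrq; rw [h, if_pos rfl]; norm_num
    · rw [h0 r hr hrq, if_neg hrq]; norm_num
  · refine ⟨i, hi, e1, he1, eq_of_code x i e1 _ ?_ hc1⟩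
    intro r hr
    rw [dec_tgt 1 q r (by norm_num) hq hr, hsc]
    by_cases hrq : r = q
    · subst hrq; rw [h, if_pos rfl]; norm_num
    · rw [h0 r hr hrq, if_neg hrq]; norm_num

end Cfsg.Agent.Rudvalis.Sign
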